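import Groth.Agent.SymAlgLib.Exists
import Groth.Agent.AmpleThLib.Pow
import Groth.Agent.TwistLib.SpecSections
import Mathlib

/-!
# The fibre coordinate of the total space of an invertible sheaf
-/

set_option autoImplicit false
set_option linter.style.haveILetI false
set_option synthInstance.maxHeartbeats 400000
set_option maxHeartbeats 1000000

universe u

open AlgebraicGeometry CategoryTheory CategoryTheory.Limits Opposite TopologicalSpace
open AlgebraicGeometry.Scheme AlgebraicGeometry.Scheme.AffineZariskiSite
open SymAlgLib AmpleLib

noncomputable section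

namespace GLinTotLib

/-- Adjoining a variable commutes with base change. -/
theorem bijective_eval₂_of_isPushout {A B Q C : CommRingCat.{u}} {f : A ⟶ B} {g : A ⟶ Q} {l : B ⟶ C} {r : Q ⟶ C}
    (h : IsPushout f g l r) (y : Q) (hy : Function.Bijective (Polynomial.eval₂RingHom g.hom y)) :
    Function.Bijective (Polynomial.eval₂RingHom l.hom (r y)) := by
  let e := RingEquiv.ofBijective _ hy
  let E := Polynomial.eval₂RingHom l.hom (r y)
  let i : B ⟶ CommRingCat.of (Polynomial B) := CommRingCat.ofHom Polynomial.C
  let m : Q ⟶ CommRingCat.of (Polynomial B) :=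
    CommRingCat.ofHom ((Polynomial.mapRingHom f.hom).comp e.symm.toRingHom)
  have hC : ∀ a, e.symm (g a) = Polynomial.C a := fun a => by
    rw [RingEquiv.symm_apply_eq]
    simp [e]
  have hX : e.symm y = Polynomial.X := by
    rw [RingEquiv.symm_apply_eq]
    simp [e]
  have w : f ≫ i = g ≫ m := by
    refine CommRingCat.hom_ext (RingHom.ext fun a => ?_)
    show Polynomial.C (f a) = Polynomial.map f.hom (e.symm (g a))
    rw [hC, Polynomial.map_C]
  let d := h.desc i m w
  have hl : ∀ b, d (l b) = Polynomial.C b := fun b =>
    ConcreteCategory.congr_hom (h.inl_desc i m w) b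
  have hr : ∀ q, d (r q) = Polynomial.map f.hom (e.symm q) := fun q =>
    ConcreteCategory.congr_hom (h.inr_desc i m w) q
  refine Function.bijective_iff_has_inverse.2 ⟨d, fun p => ?_, fun c => ?_⟩
  · have : d.hom.comp E = RingHom.id _ := by
      refine Polynomial.ringHom_ext (fun b => ?_) ?_
      · show d (E (Polynomial.C b)) = Polynomial.C b
        simp only [E, Polynomial.coe_eval₂RingHom, Polynomial.eval₂_C]
        exact hl b
      · show d (E Polynomial.X) = Polynomial.X
        simp only [E, Polynomial.coe_eval₂RingHom, Polynomial.eval₂_X]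
        rw [hr, hX, Polynomial.map_X]
    exact RingHom.congr_fun this p
  · have key : d ≫ CommRingCat.ofHom E = 𝟙 C := by
      refine h.hom_ext ?_ ?_
      · rw [h.inl_desc_assoc, Category.comp_id]
        ext b
        simp [i, E]
      · rw [h.inr_desc_assoc, Category.comp_id]
        ext q
        obtain ⟨p, rfl⟩ := e.surjective q
        show E (Polynomial.map f.hom (e.symm (e p))) = r (e p)
        rw [RingEquiv.symm_apply_apply]
        have : E.comp (Polynomial.mapRingHom f.hom) = r.hom.comp e.toRingHom := by
          refine Polynomial.ringHom_ext (fun a => ?_) ?_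
          · show E (Polynomial.map f.hom (Polynomial.C a)) = r (e (Polynomial.C a))
            simp only [E, e, Polynomial.map_C, Polynomial.coe_eval₂RingHom, Polynomial.eval₂_C,
              RingEquiv.ofBijective_apply]
            exact ConcreteCategory.congr_hom h.w a
          · show E (Polynomial.map f.hom Polynomial.X) = r (e Polynomial.X)
            simp [E, e]
        exact RingHom.congr_fun this p
    exact ConcreteCategory.congr_hom key c

variable {S : Scheme.{u}} (L : S.Modules) [Coh.IsQCoh L]

/-- The linear function on the total space given by a section. -/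
def linFn {U : S.Opens} (e : Γ(L, U)) : Γ(total L, proj L ⁻¹ᵁ U) :=
  (jAdd L).app (op U) e

theorem linFn_res {U V : S.Opens} (h : V ≤ U) (e : Γ(L, U)) :
    (total L).presheaf.map (homOfLE ((proj L).preimage_mono h)).op (linFn L e) = linFn L (res L h e) :=
  (congr($((jAdd L).naturality (homOfLE h).op) e)).symm

theorem linFn_smul {U : S.Opens} (r : Γ(S, U)) (e : Γ(L, U)) :
    linFn L (r • e) = (proj L).app U r * linFn L e :=
  jAdd_smul L U r e

theorem linFn_affine {W : S.Opens} (hW : IsAffineOpen W) (e : Γ(L, W)) :
    linFn L e = gi L ⟨W, hW⟩ (SymmetricAlgebra.ι _ _ e) :=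
  congr($(jAdd_app L ⟨W, hW⟩) e)

/-- Over an affine open a generator is a fibre coordinate. -/
theorem bijective_eval₂_linFn {W : S.Opens} (hW : IsAffineOpen W) {e : Γ(L, W)} (he : GenOn L e) :
    Function.Bijective (Polynomial.eval₂RingHom ((proj L).app W).hom (linFn L e)) := by
  let R := Γ(S, W)
  have hb : Function.Bijective (LinearMap.toSpanSingleton R Γ(L, W) e) := by
    have h := he W le_rfl
    simp only [res_refl] at h
    exact h
  let ε := LinearEquiv.ofBijective _ hb
  let φ : Γ(L, W) →ₗ[R] Polynomial R :=
    (LinearMap.toSpanSingleton R (Polynomial R) Polynomial.X).comp ε.symm.toLinearMap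
  let ψ : SymmetricAlgebra R Γ(L, W) →+* Polynomial R := (SymmetricAlgebra.lift φ).toRingHom
  let E := Polynomial.eval₂RingHom (algebraMap R (SymmetricAlgebra R Γ(L, W))) (SymmetricAlgebra.ι R _ e)
  have hsym : Function.Bijective E := by
    have hεe : ε.symm e = 1 := by
      rw [LinearEquiv.symm_apply_eq]
      simp [ε]
    refine Function.bijective_iff_has_inverse.2 ⟨ψ, fun p => ?_, fun z => ?_⟩
    · have : ψ.comp E = RingHom.id _ := by
        refine Polynomial.ringHom_ext (fun a => ?_) ?_
        · simp [ψ, E]
        · show ψ (E Polynomial.X) = Polynomial.X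
          simp only [E, Polynomial.coe_eval₂RingHom, Polynomial.eval₂_X]
          show SymmetricAlgebra.lift φ (SymmetricAlgebra.ι R _ e) = _
          rw [SymmetricAlgebra.lift_ι_apply]
          simp [φ, hεe]
      exact RingHom.congr_fun this p
    · have : E.comp ψ = RingHom.id _ := by
        refine SymAlgLib.ringHom_ext (fun a => ?_) fun m => ?_
        · simp [ψ, E]
        · show E (SymmetricAlgebra.lift φ (SymmetricAlgebra.ι R _ m)) = SymmetricAlgebra.ι R _ m
          rw [SymmetricAlgebra.lift_ι_apply]
          obtain ⟨c, hc⟩ := ε.surjective m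
          have hm : φ m = c • Polynomial.X := by
            rw [← hc]
            show LinearMap.toSpanSingleton R (Polynomial R) Polynomial.X (ε.symm (ε c)) = _
            rw [LinearEquiv.symm_apply_apply, LinearMap.toSpanSingleton_apply]
          have hm' : m = c • e := by rw [← hc]; rfl
          rw [hm, hm', map_smul (SymmetricAlgebra.ι R Γ(L, W)), Polynomial.smul_eq_C_mul]
          simp [E, Algebra.smul_def]
      exact RingHom.congr_fun this z
  have hfac : Polynomial.eval₂RingHom ((proj L).app W).hom (linFn L e) = (gi L ⟨W, hW⟩).comp E := by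
    refine Polynomial.ringHom_ext (fun a => ?_) ?_
    · simp only [RingHom.comp_apply, E, Polynomial.coe_eval₂RingHom, Polynomial.eval₂_C]
      exact (gi_algebraMap L ⟨W, hW⟩ a).symm
    · simp only [RingHom.comp_apply, E, Polynomial.coe_eval₂RingHom, Polynomial.eval₂_X]
      exact linFn_affine L hW e
  rw [hfac]
  haveI := SymAlgLib.isIso_gamma L ⟨W, hW⟩
  haveI : IsIso (inv (gamma L ⟨W, hW⟩)) := inferInstance
  exact ((ConcreteCategory.isIso_iff_bijective (inv (gamma L ⟨W, hW⟩))).mp inferInstance).comp hsym

end GLinTotLib
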