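import Groth.Agent.GLinTotLib.Coord
import Groth.Agent.GLinShLib.Inv

/-!
# The linearised line bundle pulled back along an invariant affine morphism
-/

set_option autoImplicit false
set_option backward.isDefEq.respectTransparency false
set_option linter.style.haveILetI false
set_option synthInstance.maxHeartbeats 400000
set_option maxHeartbeats 1000000

universe u

open AlgebraicGeometry CategoryTheory CategoryTheory.Limits MonoidalCategory CartesianMonoidalCategory Opposite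
  TopologicalSpace
open SymAlgLib AmpleLib
open scoped MonObj

noncomputable section

namespace GLinTotLib

theorem appLE_congr_hom {P Q : Scheme.{u}} {m m' : P ⟶ Q} (e : m = m') {O : Q.Opens} {W : P.Opens}
    (h : W ≤ m ⁻¹ᵁ O) (h' : W ≤ m' ⁻¹ᵁ O) (s : Γ(Q, O)) : m.appLE O W h s = m'.appLE O W h' s := by
  subst e; rfl

theorem appLE_appLE {P Q R : Scheme.{u}} (m : P ⟶ Q) (n : Q ⟶ R) {O : R.Opens} {O' : Q.Opens} {W : P.Opens}
    (h₁ : O' ≤ n ⁻¹ᵁ O) (h₂ : W ≤ m ⁻¹ᵁ O') (s : Γ(R, O)) :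
    m.appLE O' W h₂ (n.appLE O O' h₁ s) = (m ≫ n).appLE O W (h₂.trans (m.preimage_mono h₁)) s := by
  rw [← ConcreteCategory.comp_apply, Scheme.Hom.appLE_comp_appLE]

variable {S : Scheme.{u}} {G X Y : Over S} [GrpObj G] (a : AlgGrp.Action G X) (φ : X ⟶ Y) (L : Y.left.Modules)
  [Coh.IsQCoh L]

/-- The total space over the base. -/
abbrev TY : Over S := Over.mk (proj L ≫ Y.hom)

/-- Its projection. -/
abbrev prY : TY L ⟶ Y := Over.homMk (proj L)

/-- The pulled back total space. -/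
abbrev VX : Over S := Over.mk (pullback.fst φ.left (proj L) ≫ X.hom)

/-- Its projection. -/
abbrev prX : VX φ L ⟶ X := Over.homMk (pullback.fst φ.left (proj L))

/-- The map to the total space. -/
abbrev qY : VX φ L ⟶ TY L := Over.homMk (pullback.snd φ.left (proj L)) (by
  show pullback.snd φ.left (proj L) ≫ proj L ≫ Y.hom = pullback.fst φ.left (proj L) ≫ X.hom
  rw [← pullback.condition_assoc, Over.w φ])

theorem isPullback_V : IsPullback (prX φ L) (qY φ L) φ (prY L) :=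
  IsPullback.of_map (Over.forget S) (Over.OverMorphism.ext pullback.condition)
    (IsPullback.of_hasPullback φ.left (proj L))

theorem preimage_le (U' : Y.left.Opens) :
    (prX φ L).left ⁻¹ᵁ (φ.left ⁻¹ᵁ U') ≤ (qY φ L).left ⁻¹ᵁ (proj L ⁻¹ᵁ U') := by
  show ((prX φ L).left ≫ φ.left) ⁻¹ᵁ U' ≤ ((qY φ L).left ≫ proj L) ⁻¹ᵁ U'
  exact le_of_eq (congrArg (· ⁻¹ᵁ U') pullback.condition)

/-- Admissible coordinates: pullbacks of generators over affine opens. -/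
def chart (U : X.left.Opens) : Set Γ((VX φ L).left, (prX φ L).left ⁻¹ᵁ U) :=
  {y | ∃ (U' : Y.left.Opens) (e : Γ(L, U')), IsAffineOpen U' ∧ GenOn L e ∧ U = φ.left ⁻¹ᵁ U' ∧
    ∃ h : (prX φ L).left ⁻¹ᵁ U ≤ (qY φ L).left ⁻¹ᵁ (proj L ⁻¹ᵁ U'),
      y = (qY φ L).left.appLE (proj L ⁻¹ᵁ U') _ h (linFn L e)}

theorem mem_chart {U' : Y.left.Opens} (e : Γ(L, U')) (hU : IsAffineOpen U') (he : GenOn L e) :
    (qY φ L).left.appLE (proj L ⁻¹ᵁ U') _ (preimage_le φ L U') (linFn L e) ∈ chart φ L (φ.left ⁻¹ᵁ U') :=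
  ⟨U', e, hU, he, rfl, preimage_le φ L U', rfl⟩

theorem isFibreCoord [IsAffineHom φ.left] {U : X.left.Opens} {y : Γ((VX φ L).left, (prX φ L).left ⁻¹ᵁ U)}
    (hy : y ∈ chart φ L U) : GLinSh.IsFibreCoord (prX φ L) U y := by
  obtain ⟨U', e, hU', he, rfl, h, rfl⟩ := hy
  intro W hW hWU
  have H : IsPullback (prX φ L).left (qY φ L).left φ.left (proj L) := IsPullback.of_hasPullback φ.left (proj L)
  have hPW : (prX φ L).left ⁻¹ᵁ W = (prX φ L).left ⁻¹ᵁ W ⊓ (qY φ L).left ⁻¹ᵁ (proj L ⁻¹ᵁ U') :=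
    (inf_eq_left.2 (((prX φ L).left.preimage_mono hWU).trans h)).symm
  have hpush := (isIso_pushoutSection_iff H (le_refl (proj L ⁻¹ᵁ U')) hWU hPW).1
    (isIso_pushoutSection_of_isAffineOpen H (le_refl (proj L ⁻¹ᵁ U')) hWU hPW hU' (hU'.preimage (proj L)) hW)
  have hy' : Function.Bijective
      (Polynomial.eval₂RingHom ((proj L).appLE U' (proj L ⁻¹ᵁ U') le_rfl).hom (linFn L e)) := by
    rw [← Scheme.Hom.app_eq_appLE]
    exact bijective_eval₂_linFn L hU' he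
  have := bijective_eval₂_of_isPushout hpush (linFn L e) hy'
  rw [Scheme.Hom.app_eq_appLE]
  convert this using 3
  show (VX φ L).left.presheaf.map _ _ = _
  rw [← ConcreteCategory.comp_apply, Scheme.Hom.appLE_map]

theorem exists_unit {U₁ U₂ : Y.left.Opens} {e₁ : Γ(L, U₁)} {e₂ : Γ(L, U₂)} (he₁ : GenOn L e₁) (he₂ : GenOn L e₂) :
    ∃ u : Γ(Y.left, U₁ ⊓ U₂), IsUnit u ∧ u • res L inf_le_left e₁ = res L inf_le_right e₂ := by
  obtain ⟨u, hu⟩ := (he₁ _ inf_le_left).2 (res L (inf_le_right : U₁ ⊓ U₂ ≤ U₂) e₂)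
  obtain ⟨v, hv⟩ := (he₂ _ inf_le_right).2 (res L (inf_le_left : U₁ ⊓ U₂ ≤ U₁) e₁)
  refine ⟨u, IsUnit.of_mul_eq_one v ((he₁ _ inf_le_left).1 ?_), hu⟩
  dsimp only at hu hv ⊢
  rw [one_smul, mul_comm, mul_smul, hu, hv]

theorem appLE_linFn_res {P : Scheme.{u}} (m : P ⟶ total L) {U V : Y.left.Opens} (hle : V ≤ U) {W : P.Opens}
    (hU : W ≤ m ⁻¹ᵁ (proj L ⁻¹ᵁ U)) (hV : W ≤ m ⁻¹ᵁ (proj L ⁻¹ᵁ V)) (e : Γ(L, U)) :
    m.appLE _ W hU (linFn L e) = m.appLE _ W hV (linFn L (res L hle e)) := by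
  rw [← linFn_res L hle e, ← ConcreteCategory.comp_apply, Scheme.Hom.map_appLE]

/-- The key computation: how the coordinates transform on any scheme mapping to the total space. -/
theorem coord_change {P : Scheme.{u}} (m : P ⟶ total L) {U₁ U₂ : Y.left.Opens} {e₁ : Γ(L, U₁)} {e₂ : Γ(L, U₂)}
    {u : Γ(Y.left, U₁ ⊓ U₂)} (hu : u • res L inf_le_left e₁ = res L inf_le_right e₂) {W : P.Opens}
    (h₁ : W ≤ m ⁻¹ᵁ (proj L ⁻¹ᵁ U₁)) (h₂ : W ≤ m ⁻¹ᵁ (proj L ⁻¹ᵁ U₂)) :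
    m.appLE _ W h₂ (linFn L e₂) =
      (m ≫ proj L).appLE (U₁ ⊓ U₂) W (fun z hz => ⟨h₁ hz, h₂ hz⟩) u * m.appLE _ W h₁ (linFn L e₁) := by
  have hW : W ≤ m ⁻¹ᵁ (proj L ⁻¹ᵁ (U₁ ⊓ U₂)) := fun z hz => ⟨h₁ hz, h₂ hz⟩
  rw [appLE_linFn_res L m inf_le_right h₂ hW, appLE_linFn_res L m inf_le_left h₁ hW, ← hu, linFn_smul, map_mul, Scheme.Hom.app_eq_appLE,
    appLE_appLE]

/-- The line bundle structure. -/
def atlas [IsAffineHom φ.left] (hL : PicF.IsInvertible L) : GLinSh.LinAtlas (prX φ L) where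
  affine := show IsAffineHom (pullback.fst φ.left (proj L)) from MorphismProperty.pullback_fst _ _ inferInstance
  chart := chart φ L
  cover x := by
    obtain ⟨U, e, hxU, he⟩ := TwistLib.exists_genOn hL (φ.left x)
    obtain ⟨W, hW, hxW, hWU⟩ := exists_isAffineOpen_mem_and_subset hxU
    exact ⟨φ.left ⁻¹ᵁ W, hxW, _, mem_chart φ L (res L hWU e) hW (he.res hWU)⟩
  coord U y hy := isFibreCoord φ L hy
  linear U U' y y' hy hy' := by
    obtain ⟨U₁, e₁, hU₁, he₁, rfl, h₁, rfl⟩ := hy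
    obtain ⟨U₂, e₂, hU₂, he₂, rfl, h₂, rfl⟩ := hy'
    obtain ⟨u, hu, hrel⟩ := exists_unit L he₁ he₂
    refine ⟨φ.left.appLE (U₁ ⊓ U₂) (φ.left ⁻¹ᵁ U₁ ⊓ φ.left ⁻¹ᵁ U₂) (le_of_eq rfl) u, hu.map _, ?_⟩
    let W := (prX φ L).left ⁻¹ᵁ (φ.left ⁻¹ᵁ U₁ ⊓ φ.left ⁻¹ᵁ U₂)
    have k₁ : W ≤ (qY φ L).left ⁻¹ᵁ (proj L ⁻¹ᵁ U₁) := ((prX φ L).left.preimage_mono inf_le_left).trans h₁
    have k₂ : W ≤ (qY φ L).left ⁻¹ᵁ (proj L ⁻¹ᵁ U₂) := ((prX φ L).left.preimage_mono inf_le_right).trans h₂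
    have e2 := coord_change L (qY φ L).left hrel k₁ k₂
    simp only [GLinSh.res]
    rw [← ConcreteCategory.comp_apply, ← ConcreteCategory.comp_apply (f := (qY φ L).left.appLE _ _ _),
      Scheme.Hom.appLE_map, Scheme.Hom.appLE_map, Scheme.Hom.app_eq_appLE, appLE_appLE]
    refine e2.trans ?_
    congr 1
    exact appLE_congr_hom pullback.condition.symm _ _ u

variable {a}

/-- The lifted action morphism. -/
def liftHom (hφ : GIT.IsInvariant a φ) : G ⊗ VX φ L ⟶ VX φ L :=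
  (isPullback_V φ L).lift ((G ◁ prX φ L) ≫ a.act) (snd G (VX φ L) ≫ qY φ L) (by
    rw [Category.assoc, show a.act ≫ φ = snd G X ≫ φ from hφ, whiskerLeft_snd_assoc, (isPullback_V φ L).w,
      Category.assoc])

@[reassoc]
theorem liftHom_prX (hφ : GIT.IsInvariant a φ) : liftHom φ L hφ ≫ prX φ L = (G ◁ prX φ L) ≫ a.act :=
  (isPullback_V φ L).lift_fst _ _ _

@[reassoc]
theorem liftHom_qY (hφ : GIT.IsInvariant a φ) : liftHom φ L hφ ≫ qY φ L = snd G (VX φ L) ≫ qY φ L :=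
  (isPullback_V φ L).lift_snd _ _ _

/-- The lifted action. -/
def liftAct (hφ : GIT.IsInvariant a φ) : AlgGrp.Action G (VX φ L) where
  act := liftHom φ L hφ
  one_act := by
    refine (isPullback_V φ L).hom_ext ?_ ?_
    · rw [Category.assoc, liftHom_prX, ← whisker_exchange_assoc, a.one_act, leftUnitor_naturality]
    · rw [Category.assoc, liftHom_qY, whiskerRight_snd_assoc]
      rfl
  mul_act := by
    refine (isPullback_V φ L).hom_ext ?_ ?_
    · rw [Category.assoc, Category.assoc, Category.assoc, liftHom_prX, ← whisker_exchange_assoc, a.mul_act,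
        associator_naturality_right_assoc, ← MonoidalCategory.whiskerLeft_comp_assoc, ← liftHom_prX φ L hφ,
        MonoidalCategory.whiskerLeft_comp_assoc, liftHom_prX φ L hφ]
    · rw [Category.assoc, Category.assoc, Category.assoc, liftHom_qY, whiskerRight_snd_assoc,
        whiskerLeft_snd_assoc, liftHom_qY]
      simp

theorem isLinearLift [IsAffineHom φ.left] (hφ : GIT.IsInvariant a φ) :
    GLinSh.IsLinearLift a (prX φ L) (liftAct φ L hφ) (chart φ L) (liftHom_prX φ L hφ) := by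
  intro U U' y y' hy hy'
  obtain ⟨U₁, e₁, hU₁, he₁, rfl, h₁, rfl⟩ := hy
  obtain ⟨U₂, e₂, hU₂, he₂, rfl, h₂, rfl⟩ := hy'
  obtain ⟨u, hu, hrel⟩ := exists_unit L he₁ he₂
  have hinv : a.act.left ⁻¹ᵁ (φ.left ⁻¹ᵁ U₂) = (snd G X).left ⁻¹ᵁ (φ.left ⁻¹ᵁ U₂) :=
    GLinShLib.isInvOpen_preimage hφ U₂
  set O := a.act.left ⁻¹ᵁ (φ.left ⁻¹ᵁ U₂) ⊓ (snd G X).left ⁻¹ᵁ (φ.left ⁻¹ᵁ U₁)
  have hO : O ≤ (snd G X ≫ φ).left ⁻¹ᵁ (U₁ ⊓ U₂) := fun p hp => ⟨hp.2, hinv.le hp.1⟩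
  refine ⟨(snd G X ≫ φ).left.appLE (U₁ ⊓ U₂) O hO u, ?_⟩
  set W := GLinSh.liftOpen a (prX φ L) (φ.left ⁻¹ᵁ U₁) (φ.left ⁻¹ᵁ U₂)
  let m : (G ⊗ VX φ L).left ⟶ total L := (snd G (VX φ L)).left ≫ (qY φ L).left
  have hm : (liftAct φ L hφ).act.left ≫ (qY φ L).left = m :=
    congrArg CommaMorphism.left (liftHom_qY φ L hφ)
  have k₁ : W ≤ m ⁻¹ᵁ (proj L ⁻¹ᵁ U₁) :=
    (GLinSh.liftOpen_le_snd a (prX φ L)).trans ((snd G (VX φ L)).left.preimage_mono h₁)
  have k₂ : W ≤ m ⁻¹ᵁ (proj L ⁻¹ᵁ U₂) := by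
    rw [← hm]
    exact (GLinSh.liftOpen_le_act a (prX φ L) (liftAct φ L hφ) (liftHom_prX φ L hφ)).trans
      ((liftAct φ L hφ).act.left.preimage_mono h₂)
  have e := coord_change L m hrel k₁ k₂
  rw [appLE_appLE, appLE_appLE, appLE_appLE]
  refine (appLE_congr_hom hm _ k₂ _).trans (e.trans ?_)
  congr 1
  refine appLE_congr_hom ?_ _ _ u
  show ((snd G (VX φ L)).left ≫ (qY φ L).left) ≫ proj L = _
  rw [Category.assoc, show (qY φ L).left ≫ proj L = (prX φ L).left ≫ φ.left from pullback.condition.symm]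
  exact (congrArg (CommaMorphism.left) (whiskerLeft_snd_assoc G (prX φ L) φ)).symm

/-- The linearised line bundle. -/
def linBun [IsAffineHom φ.left] (hφ : GIT.IsInvariant a φ) (hL : PicF.IsInvertible L) : GLinSh.LinBun G a where
  V := VX φ L
  π := prX φ L
  atlas := atlas φ L hL
  lift := liftAct φ L hφ
  lift_π := liftHom_prX φ L hφ
  lift_linear := isLinearLift φ L hφ

/-- The invariant section given by a section of `L`. -/
def sect (σ : Γ(L, ⊤)) : Γ((VX φ L).left, ⊤) :=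
  (qY φ L).left.appLE (proj L ⁻¹ᵁ ⊤) ⊤ (le_of_eq (Scheme.Hom.preimage_top _).symm) (linFn L σ)

theorem coeff_sect [IsAffineHom φ.left] (σ : Γ(L, ⊤)) {U' : Y.left.Opens} {e : Γ(L, U')} {r : Γ(Y.left, U')}
    (hr : r • e = res L le_top σ) (h : (prX φ L).left ⁻¹ᵁ (φ.left ⁻¹ᵁ U') ≤ (qY φ L).left ⁻¹ᵁ (proj L ⁻¹ᵁ U')) :
    GLinSh.resTop (prX φ L) (φ.left ⁻¹ᵁ U') (sect φ L σ) =
      (prX φ L).left.app (φ.left ⁻¹ᵁ U') (φ.left.app U' r) *
        (qY φ L).left.appLE (proj L ⁻¹ᵁ U') _ h (linFn L e) := by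
  show (VX φ L).left.presheaf.map _ ((qY φ L).left.appLE _ ⊤ _ (linFn L σ)) = _
  rw [← ConcreteCategory.comp_apply, Scheme.Hom.appLE_map]
  refine (appLE_linFn_res L (qY φ L).left le_top _ h σ).trans ?_
  rw [← hr, linFn_smul, map_mul]
  congr 1
  rw [Scheme.Hom.app_eq_appLE, Scheme.Hom.app_eq_appLE, Scheme.Hom.app_eq_appLE]
  exact (appLE_appLE _ _ _ _ _).trans ((appLE_congr_hom pullback.condition.symm _ (le_of_eq rfl) r).trans
    (appLE_appLE _ _ _ _ _).symm)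

theorem isInvSection_sect [IsAffineHom φ.left] (hφ : GIT.IsInvariant a φ) (hL : PicF.IsInvertible L) (σ : Γ(L, ⊤)) :
    (linBun φ L hφ hL).IsInvSection 1 (sect φ L σ) := by
  refine ⟨?_, ?_⟩
  · intro U y hy
    obtain ⟨U', e, hU', he, rfl, h, rfl⟩ := hy
    obtain ⟨r, hr⟩ := AmpleThLib.exists_coeff σ he
    exact ⟨φ.left.app U' r, by rw [pow_one]; exact coeff_sect φ L σ hr h⟩
  · show GLinSh.IsInvFn (liftAct φ L hφ) _
    unfold GLinSh.IsInvFn sect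
    rw [Scheme.Hom.appTop, Scheme.Hom.appTop, Scheme.Hom.app_eq_appLE, Scheme.Hom.app_eq_appLE]
    exact (appLE_appLE _ _ _ _ _).trans ((appLE_congr_hom (congrArg CommaMorphism.left (liftHom_qY φ L hφ)) _
      (le_of_eq (Scheme.Hom.preimage_top _).symm) _).trans (appLE_appLE _ _ _ _ _).symm)

end GLinTotLib
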